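import Mathlib.RingTheory.Length
import Mathlib.LinearAlgebra.Quotient.Pi
import Mathlib.RingTheory.Artinian.Ring
import Mathlib.RingTheory.Artinian.Algebra
import Mathlib.RingTheory.Localization.Integer
import Mathlib.RingTheory.Localization.FractionRing
import Mathlib.RingTheory.KrullDimension.Zero
import Mathlib.RingTheory.HopkinsLevitzki
import Mathlib.RingTheory.IntegralClosure.Algebra.Basic
import Mathlib.LinearAlgebra.Dimension.Constructions
import Mathlib.RingTheory.Algebraic.Integral

/-!
# The Krull–Akizuki theorem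
-/

open scoped Pointwise

namespace Groth.Agent.KrullAkizuki

universe u

variable {R : Type u} [CommRing R]

/-- the multiples of `a` in a module -/
abbrev mulRange (a : R) (M : Type u) [AddCommGroup M] [Module R M] : Submodule R M :=
  LinearMap.range (LinearMap.lsmul R M a)

theorem length_quotient_pow {N : Type u} [AddCommGroup N] [Module R N] {a : R}
    (ha : IsSMulRegular N a) : ∀ n : ℕ,
      Module.length R (N ⧸ mulRange (a ^ n) N) = n * Module.length R (N ⧸ mulRange a N) := by
  intro n
  induction n with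
  | zero =>
    have : Subsingleton (N ⧸ mulRange (a ^ 0) N) := Submodule.Quotient.subsingleton_iff.2
      (by rw [eq_top_iff]; exact fun x _ => ⟨x, by simp⟩)
    simp [Module.length_eq_zero]
  | succ n ih =>
    have h1 : mulRange (a ^ n) N ≤ (mulRange (a ^ (n + 1)) N).comap (LinearMap.lsmul R N a) := by
      rintro _ ⟨x, rfl⟩; exact ⟨x, by simp [pow_succ', mul_smul, smul_comm a]⟩
    have h2 : mulRange (a ^ (n + 1)) N ≤ (mulRange a N).comap LinearMap.id := by
      rintro _ ⟨x, rfl⟩; exact ⟨a ^ n • x, by simp [pow_succ', mul_smul, smul_comm a]⟩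
    let f := Submodule.mapQ _ _ (LinearMap.lsmul R N a) h1
    let g := Submodule.mapQ _ _ LinearMap.id h2
    have hf : Function.Injective f := by
      rw [injective_iff_map_eq_zero]
      intro x hx
      obtain ⟨x, rfl⟩ := Submodule.Quotient.mk_surjective _ x
      rw [Submodule.mapQ_apply, Submodule.Quotient.mk_eq_zero] at hx
      obtain ⟨y, hy⟩ := hx
      rw [Submodule.Quotient.mk_eq_zero]
      refine ⟨y, ha ?_⟩
      simpa [pow_succ', mul_smul] using hy
    have hg : Function.Surjective g := fun x => by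
      obtain ⟨x, rfl⟩ := Submodule.Quotient.mk_surjective _ x
      exact ⟨Submodule.Quotient.mk x, rfl⟩
    have hex : Function.Exact f g := by
      intro x
      obtain ⟨x, rfl⟩ := Submodule.Quotient.mk_surjective _ x
      constructor
      · intro hx
        rw [Submodule.mapQ_apply, Submodule.Quotient.mk_eq_zero] at hx
        obtain ⟨y, hy⟩ := hx
        exact ⟨Submodule.Quotient.mk y, congrArg Submodule.Quotient.mk hy⟩
      · rintro ⟨y, hy⟩
        obtain ⟨y, rfl⟩ := Submodule.Quotient.mk_surjective _ y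
        rw [← hy]
        show g (f (Submodule.Quotient.mk y)) = 0
        simp only [f, g, Submodule.mapQ_apply, LinearMap.id_apply, Submodule.Quotient.mk_eq_zero]
        exact ⟨y, rfl⟩
    rw [Module.length_eq_add_of_exact f g hf hg hex, ih, Nat.cast_add, Nat.cast_one, add_mul, one_mul]

theorem length_quotient_le_of_finite_coker {N N' : Type u} [AddCommGroup N] [Module R N]
    [AddCommGroup N'] [Module R N'] {a : R} (ha : IsSMulRegular N a) (ha' : IsSMulRegular N' a)
    (j : N →ₗ[R] N') (hj : Function.Injective j)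
    (hC : Module.length R (N' ⧸ LinearMap.range j) ≠ ⊤) :
    Module.length R (N ⧸ mulRange a N) ≤ Module.length R (N' ⧸ mulRange a N') := by
  set C := Module.length R (N' ⧸ LinearMap.range j) with hCdef
  set l := Module.length R (N ⧸ mulRange a N)
  set l' := Module.length R (N' ⧸ mulRange a N')
  have key : ∀ n : ℕ, (n : ℕ∞) * l ≤ C + n * l' := by
    intro n
    let U : Submodule R N' := (mulRange (a ^ n) N).map j
    have hU : U ≤ mulRange (a ^ n) N' := by
      rintro _ ⟨_, ⟨x, rfl⟩, rfl⟩; exact ⟨j x, by simp⟩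
    have h1 : Module.length R (N ⧸ mulRange (a ^ n) N) ≤ Module.length R (N' ⧸ U) := by
      refine Module.length_le_of_injective (Submodule.mapQ _ _ j (Submodule.map_le_iff_le_comap.1 le_rfl)) ?_
      rw [injective_iff_map_eq_zero]
      intro x hx
      obtain ⟨x, rfl⟩ := Submodule.Quotient.mk_surjective _ x
      rw [Submodule.mapQ_apply, Submodule.Quotient.mk_eq_zero] at hx
      obtain ⟨y, hy, e⟩ := hx
      rw [Submodule.Quotient.mk_eq_zero, ← hj e]; exact hy
    have h2' : LinearMap.range j ≤ U.comap (LinearMap.lsmul R N' (a ^ n)) := by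
      rintro _ ⟨x, rfl⟩; exact ⟨a ^ n • x, ⟨x, rfl⟩, by simp⟩
    let f := Submodule.mapQ _ _ (LinearMap.lsmul R N' (a ^ n)) h2'
    let g := Submodule.mapQ U (mulRange (a ^ n) N') LinearMap.id hU
    have hf : Function.Injective f := by
      rw [injective_iff_map_eq_zero]
      intro x hx
      obtain ⟨x, rfl⟩ := Submodule.Quotient.mk_surjective _ x
      rw [Submodule.mapQ_apply, Submodule.Quotient.mk_eq_zero] at hx
      obtain ⟨_, ⟨y, rfl⟩, e⟩ := hx
      rw [Submodule.Quotient.mk_eq_zero]
      exact ⟨y, ha'.pow n (by simpa using e)⟩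
    have hex : Function.Exact f g := by
      intro x
      obtain ⟨x, rfl⟩ := Submodule.Quotient.mk_surjective _ x
      constructor
      · intro hx
        rw [Submodule.mapQ_apply, Submodule.Quotient.mk_eq_zero] at hx
        obtain ⟨y, hy⟩ := hx
        exact ⟨Submodule.Quotient.mk y, congrArg Submodule.Quotient.mk hy⟩
      · rintro ⟨y, hy⟩
        obtain ⟨y, rfl⟩ := Submodule.Quotient.mk_surjective _ y
        rw [← hy]
        show g (f (Submodule.Quotient.mk y)) = 0
        simp only [f, g, Submodule.mapQ_apply, LinearMap.id_apply, Submodule.Quotient.mk_eq_zero]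
        exact ⟨y, rfl⟩
    have h3 := Module.length_eq_add_of_exact f g hf (fun x => by
      obtain ⟨x, rfl⟩ := Submodule.Quotient.mk_surjective _ x
      exact ⟨Submodule.Quotient.mk x, rfl⟩) hex
    rw [← length_quotient_pow ha, ← length_quotient_pow ha', ← h3]
    exact h1
  rcases eq_or_ne l' ⊤ with h | h
  · rw [h]; exact le_top
  obtain ⟨c, hc⟩ := ENat.ne_top_iff_exists.1 hC
  obtain ⟨m', hm'⟩ := ENat.ne_top_iff_exists.1 h
  have h1 := key 1
  rw [Nat.cast_one, one_mul, one_mul, ← hc, ← hm'] at h1
  obtain ⟨m, hm⟩ := ENat.ne_top_iff_exists.1 (ne_top_of_le_ne_top (by simp) h1)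
  have h2 := key (c + 1)
  rw [← hc, ← hm, ← hm'] at h2
  norm_cast at h2
  rw [← hm, ← hm']
  norm_cast
  by_contra hlt
  have h4 : (c + 1) * (m' + 1) ≤ (c + 1) * m := Nat.mul_le_mul_left _ (by omega)
  nlinarith

variable [IsDomain R] [IsNoetherianRing R] [Ring.KrullDimLE 1 R]

theorem length_quotient_span_ne_top {c : R} (hc : c ≠ 0) :
    Module.length R (R ⧸ Ideal.span {c}) ≠ ⊤ := by
  haveI : Ring.KrullDimLE 0 (R ⧸ Ideal.span {c}) := by
    rw [Ring.krullDimLE_zero_iff]
    intro P hP
    have hP' : (P.comap (Ideal.Quotient.mk _)).IsMaximal := by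
      refine Ring.krullDimLE_one_iff_of_noZeroDivisors.mp ‹_› _ (fun h => hc ?_) inferInstance
      have : c ∈ P.comap (Ideal.Quotient.mk (Ideal.span {c})) := by
        simp [Ideal.Quotient.eq_zero_iff_mem.2 (Ideal.mem_span_singleton_self c)]
      simpa [h] using this
    have hm := Ideal.map_eq_top_or_isMaximal_of_surjective (Ideal.Quotient.mk (Ideal.span {c}))
      Ideal.Quotient.mk_surjective hP'
    rw [Ideal.map_comap_of_surjective _ Ideal.Quotient.mk_surjective] at hm
    exact hm.resolve_left hP.ne_top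
  haveI : IsNoetherianRing (R ⧸ Ideal.span {c}) :=
    isNoetherianRing_of_surjective R _ (Ideal.Quotient.mk _) Ideal.Quotient.mk_surjective
  haveI : IsArtinianRing (R ⧸ Ideal.span {c}) := isArtinianRing_iff_krullDimLE_zero.2 inferInstance
  rw [Module.length_eq_of_surjective (S := R) (R := R ⧸ Ideal.span {c}) (M := R ⧸ Ideal.span {c})
    Ideal.Quotient.mk_surjective]
  exact Module.length_ne_top

variable {K L : Type u} [Field K] [Field L] [Algebra R K] [IsFractionRing R K] [Algebra K L]
  [FiniteDimensional K L] [Algebra R L] [IsScalarTower R K L]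

variable (R K) in
include K in
/-- Krull–Akizuki: for a torsion-free module of rank `r`, the length of `M/aM` is `≤ r·length(R/a)`. -/
theorem length_quotient_le (M : Submodule R L) {a : R} (ha : a ≠ 0) :
    Module.length R (M ⧸ mulRange a M) ≠ ⊤ := by
  classical
  set W : Submodule K L := Submodule.span K (M : Set L)
  obtain ⟨s, hsM, hsspan, hsli⟩ := exists_linearIndependent K (M : Set L)
  have hsfin : Fintype s := (LinearIndependent.setFinite hsli).fintype
  set b := fun i : s => (i : L)
  set Λ : Submodule R L := Submodule.span R (Set.range b)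
  have hliR : LinearIndependent R b :=
    LinearIndependent.restrict_scalars' R hsli
  let e : Λ ≃ₗ[R] (s → R) := (Module.Basis.span hliR).equivFun
  have hreg : ∀ (N : Submodule R L) (x : R), x ≠ 0 → IsSMulRegular N x := fun N x hx y z h => Subtype.ext (by
    have h' : x • (y : L) = x • (z : L) := congrArg Subtype.val h
    rw [← algebraMap_smul K x, ← algebraMap_smul K x (z : L)] at h'
    exact smul_right_injective L ((map_ne_zero_iff _ (IsFractionRing.injective R K)).2 hx) h')
  set r : ℕ∞ := Module.length R (R ⧸ mulRange a R) * (Fintype.card s : ℕ∞)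
  have hr : r ≠ ⊤ := by
    refine WithTop.mul_ne_top ?_ (ENat.coe_ne_top _)
    rw [show mulRange a R = Ideal.span {a} by
      ext x; simp [Ideal.mem_span_singleton, dvd_iff_exists_eq_mul_left, mul_comm a, eq_comm]]
    exact length_quotient_span_ne_top ha
  suffices hbound : ∀ Q : Submodule R (M ⧸ mulRange a M), Q.FG → Module.length R Q ≤ r by
    intro htop
    obtain ⟨Q, hQ, hlt⟩ : ∃ Q : Submodule R (M ⧸ mulRange a M), Q.FG ∧ r < Module.length R Q := by
      obtain ⟨n, hn⟩ := ENat.ne_top_iff_exists.1 hr
      rw [← hn]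
      clear hn
      -- strictly increasing finitely generated submodules
      by_contra hno
      push Not at hno
      have hnoeth : IsNoetherian R (M ⧸ mulRange a M) := by
        by_contra hnn
        obtain ⟨q, hq⟩ : ∃ q : ℕ → Submodule R (M ⧸ mulRange a M), (∀ i, (q i).FG) ∧ StrictMono q := by
          have hnf : ∃ Q₀ : Submodule R (M ⧸ mulRange a M), ¬ Q₀.FG := by
            by_contra h; push Not at h; exact hnn ⟨h⟩
          obtain ⟨Q₀, hQ₀⟩ := hnf
          have step : ∀ P : {P : Submodule R (M ⧸ mulRange a M) // P.FG ∧ P ≤ Q₀},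
              ∃ P' : {P : Submodule R (M ⧸ mulRange a M) // P.FG ∧ P ≤ Q₀}, P.1 < P'.1 := by
            rintro ⟨P, hP, hPle⟩
            obtain ⟨x, hx, hxP⟩ := SetLike.exists_of_lt (lt_of_le_of_ne hPle (fun h => hQ₀ (h ▸ hP)))
            exact ⟨⟨P ⊔ Submodule.span R {x}, hP.sup (Submodule.fg_span_singleton x),
              sup_le hPle ((Submodule.span_singleton_le_iff_mem _ _).2 hx)⟩, by
              simpa [lt_iff_le_not_ge, Submodule.span_singleton_le_iff_mem] using hxP⟩
          choose nxt hnxt using step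
          let q : ℕ → {P : Submodule R (M ⧸ mulRange a M) // P.FG ∧ P ≤ Q₀} := fun i =>
            nxt^[i] ⟨⊥, Submodule.fg_bot, bot_le⟩
          exact ⟨fun i => (q i).1, fun i => (q i).2.1, strictMono_nat_of_lt_succ fun i => by
            simp only [q, Function.iterate_succ_apply']; exact hnxt _⟩
        have hlen : ∀ i : ℕ, (i : ℕ∞) ≤ Module.length R (q i) := by
          intro i
          rw [Module.length_submodule]
          exact Order.length_le_height (p := ⟨i, fun j => q j, fun j => hq.2 (by simp [Fin.lt_def])⟩) le_rfl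
        exact absurd ((hlen (n + 1)).trans (hno _ (hq.1 _))) (by norm_cast; omega)
      have := hno ⊤ (IsNoetherian.noetherian _)
      rw [Module.length_top, htop] at this
      simp at this
    exact absurd (hbound Q hQ) (not_le.2 hlt)
  intro Q hQ
  obtain ⟨T, rfl⟩ := hQ
  choose t ht using fun x : M ⧸ mulRange a M => Submodule.Quotient.mk_surjective _ x
  let N : Submodule R L := Submodule.span R (Set.range b ∪ (fun x : T => ((t x : M) : L)) '' Set.univ)
  have hNM : N ≤ M := Submodule.span_le.2 (by
    rintro _ (⟨i, rfl⟩ | ⟨x, -, rfl⟩)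
    · exact hsM i.2
    · exact (t x).2)
  have hΛN : Λ ≤ N := Submodule.span_mono Set.subset_union_left
  have hNfg : N.FG := Submodule.fg_span ((Set.finite_range b).union (Set.finite_univ.image _))
  -- a common denominator
  obtain ⟨S, hS⟩ := hNfg
  have hden : ∀ x : L, x ∈ M → ∃ c : R, c ≠ 0 ∧ c • x ∈ Λ := by
    intro x hx
    have : x ∈ Submodule.span K (Set.range b) := by
      rw [show Set.range b = s from Subtype.range_coe, hsspan]; exact Submodule.subset_span hx
    obtain ⟨f, hf⟩ := (Submodule.mem_span_range_iff_exists_fun K).1 this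
    obtain ⟨⟨c, hc⟩, hcf⟩ := IsLocalization.exist_integer_multiples (nonZeroDivisors R) Finset.univ f
    refine ⟨c, nonZeroDivisors.ne_zero hc, ?_⟩
    rw [← hf, Finset.smul_sum]
    refine Submodule.sum_mem _ fun i _ => ?_
    obtain ⟨y, hy⟩ := hcf i (Finset.mem_univ i)
    rw [← smul_assoc, ← show algebraMap R K y = c • f i from hy, algebraMap_smul]
    exact Submodule.smul_mem _ _ (Submodule.subset_span ⟨i, rfl⟩)
  choose c hc hcmem using fun x : S => hden x.1 (hNM (hS ▸ Submodule.subset_span x.2))
  let C : R := ∏ x, c x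
  have hC : C ≠ 0 := Finset.prod_ne_zero_iff.2 fun x _ => hc x
  have hCN : ∀ x ∈ N, C • x ∈ Λ := by
    intro x hx
    rw [← hS] at hx
    induction hx using Submodule.span_induction with
    | mem z hz =>
      rw [show C = (∏ y ∈ Finset.univ.erase ⟨z, hz⟩, c y) * c ⟨z, hz⟩ from
        (Finset.prod_erase_mul _ _ (Finset.mem_univ _)).symm, mul_smul]
      exact Submodule.smul_mem _ _ (hcmem _)
    | zero => simp
    | add _ _ _ _ h1 h2 => rw [smul_add]; exact add_mem h1 h2
    | smul d _ _ h1 => rw [smul_comm]; exact Submodule.smul_mem _ _ h1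
  let j : N →ₗ[R] Λ := (C • N.subtype).codRestrict Λ fun x => hCN x x.2
  have hj : Function.Injective j := fun x y h => hreg N C hC (Subtype.ext (by simpa [j] using congrArg Subtype.val h))
  have hspan : ∀ c : R, mulRange c R = Ideal.span {c} := fun c => by
    ext x; simp [Ideal.mem_span_singleton, dvd_iff_exists_eq_mul_left, mul_comm c, eq_comm]
  have hΛlen : ∀ c : R, Module.length R (Λ ⧸ mulRange c Λ) = (Fintype.card s : ℕ∞) * Module.length R (R ⧸ mulRange c R) := by
    intro c
    let p : Submodule R (s → R) := Submodule.pi Set.univ fun _ : s => mulRange c R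
    have hp : (mulRange c Λ).map (e : Λ →ₗ[R] (s → R)) = p := by
      ext v
      constructor
      · rintro ⟨_, ⟨y, rfl⟩, rfl⟩
        exact fun i _ => ⟨e y i, by simp⟩
      · intro h
        choose w hw using fun i => h i trivial
        exact ⟨c • e.symm w, ⟨_, rfl⟩, by simp only [map_smul]; funext i; simpa using hw i⟩
    rw [(Submodule.Quotient.equiv (mulRange c Λ) p e hp).length_eq,
      (Submodule.quotientPi fun _ : s => mulRange c R).length_eq, Module.length_pi_of_fintype]
    simp
  have hfin : Module.length R (Λ ⧸ LinearMap.range j) ≠ ⊤ := by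
    have h1 : Module.length R (Λ ⧸ mulRange C Λ) ≠ ⊤ := by
      rw [hΛlen, hspan]
      exact WithTop.mul_ne_top (ENat.coe_ne_top _) (length_quotient_span_ne_top hC)
    refine ne_top_of_le_ne_top h1 (Module.length_le_of_surjective
      (Submodule.mapQ _ _ LinearMap.id ?_) fun x => ?_)
    · rintro _ ⟨y, rfl⟩
      exact ⟨⟨y.1, hΛN y.2⟩, Subtype.ext rfl⟩
    · obtain ⟨x, rfl⟩ := Submodule.Quotient.mk_surjective _ x
      exact ⟨Submodule.Quotient.mk x, rfl⟩
  have hlenΛ : Module.length R (Λ ⧸ mulRange a Λ) = r := by rw [hΛlen, mul_comm]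
  refine le_trans ?_ ((length_quotient_le_of_finite_coker (hreg N a ha) (hreg Λ a ha) j hj hfin).trans hlenΛ.le)
  have hm : mulRange a N ≤ (mulRange a M).comap (Submodule.inclusion hNM) := by
    rintro _ ⟨y, rfl⟩; exact ⟨Submodule.inclusion hNM y, rfl⟩
  let g := Submodule.mapQ _ _ (Submodule.inclusion hNM) hm
  refine le_trans ?_ (Module.length_le_of_surjective (LinearMap.rangeRestrict g) g.surjective_rangeRestrict)
  refine Module.length_le_of_injective (Submodule.inclusion ?_) (Submodule.inclusion_injective _)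
  rw [Submodule.span_le]
  intro x hx
  exact ⟨Submodule.Quotient.mk ⟨(t x : L), Submodule.subset_span (Or.inr ⟨⟨x, hx⟩, trivial, rfl⟩)⟩,
    (congrArg Submodule.Quotient.mk (Subtype.ext rfl)).trans (ht x)⟩

variable (R K L) in
include K in
/-- The Krull–Akizuki theorem. -/
theorem isNoetherianRing_of_between (A : Type u) [CommRing A] [Algebra R A] [Algebra A L]
    [IsScalarTower R A L] (hA : Function.Injective (algebraMap A L)) : IsNoetherianRing A := by
  haveI : IsDomain A := hA.isDomain
  refine (isNoetherianRing_iff_ideal_fg A).2 fun J => ?_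
  by_cases hJ : J = ⊥
  · exact hJ ▸ Submodule.fg_bot
  obtain ⟨y, hy, hy0⟩ := Submodule.exists_mem_ne_zero_of_ne_bot hJ
  obtain ⟨a, haJ, ha⟩ : ∃ a : R, algebraMap R A a ∈ J ∧ a ≠ 0 := by
    have halg : IsAlgebraic R (algebraMap A L y) :=
      (IsFractionRing.isAlgebraic_iff R K L).2 (Algebra.IsAlgebraic.isAlgebraic _)
    have halg' : IsAlgebraic R y := (isAlgebraic_algebraMap_iff hA).1 halg
    obtain ⟨a, ha, hdvd⟩ := halg'.exists_nonzero_dvd (mem_nonZeroDivisors_of_ne_zero hy0)
    obtain ⟨c, hc⟩ := hdvd
    exact ⟨a, by rw [hc]; exact J.mul_mem_right _ hy, ha⟩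
  let ψ : A →ₗ[R] L := (IsScalarTower.toAlgHom R A L).toLinearMap
  let M := LinearMap.range ψ
  have hlen : Module.length R (M ⧸ mulRange a M) ≠ ⊤ := length_quotient_le R K M ha
  let eA : A ≃ₗ[R] M := LinearEquiv.ofInjective ψ hA
  have hlenA : Module.length R (A ⧸ mulRange a A) ≠ ⊤ := by
    rwa [(Submodule.Quotient.equiv _ (mulRange a M) eA (by
      ext v
      constructor
      · rintro ⟨_, ⟨z, rfl⟩, rfl⟩; exact ⟨eA z, by simp⟩
      · rintro ⟨z, rfl⟩; exact ⟨a • eA.symm z, ⟨_, rfl⟩, by simp⟩)).length_eq]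
  have hn : IsNoetherian R (A ⧸ mulRange a A) :=
    (isFiniteLength_iff_isNoetherian_isArtinian.1 (Module.length_ne_top_iff.1 hlenA)).1
  obtain ⟨T, hT⟩ := hn.noetherian ((J.restrictScalars R).map (mulRange a A).mkQ)
  classical
  have hlift : ∀ x : T, ∃ z ∈ J, (mulRange a A).mkQ z = x := fun x => by
    have : (x : A ⧸ mulRange a A) ∈ (J.restrictScalars R).map (mulRange a A).mkQ := hT ▸ Submodule.subset_span x.2
    exact this
  choose z hz hzx using hlift
  refine ⟨insert (algebraMap R A a) (Finset.univ.image z), le_antisymm (Submodule.span_le.2 ?_) fun w hw => ?_⟩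
  · intro x hx
    simp only [Finset.coe_insert, Set.mem_insert_iff, Finset.coe_image, Set.mem_image] at hx
    rcases hx with rfl | ⟨i, -, rfl⟩
    exacts [haJ, hz i]
  · set G := Submodule.span A (↑(insert (algebraMap R A a) (Finset.univ.image z)) : Set A)
    have hw' : (mulRange a A).mkQ w ∈ (G.restrictScalars R).map (mulRange a A).mkQ := by
      have : (mulRange a A).mkQ w ∈ (J.restrictScalars R).map (mulRange a A).mkQ := ⟨w, hw, rfl⟩
      rw [← hT] at this
      refine Submodule.span_le.2 (fun x hx => ?_) this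
      exact ⟨z ⟨x, hx⟩, Submodule.subset_span (by simp), hzx ⟨x, hx⟩⟩
    obtain ⟨g, hg, hgw⟩ := hw'
    obtain ⟨d, hd⟩ := (Submodule.Quotient.eq _).1 hgw
    have hwe : w = g - algebraMap R A a * d := by
      rw [← Algebra.smul_def, ← LinearMap.lsmul_apply, hd, sub_sub_cancel]
    rw [hwe]
    exact sub_mem hg (G.smul_mem d (show algebraMap R A a ∈ G from Submodule.subset_span (by simp)) |> fun h => by rwa [smul_eq_mul, mul_comm] at h)

end Groth.Agent.KrullAkizuki
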