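import Groth.Agent.Lib.KrullAkizuki.Basic
import Mathlib

/-!
# Krull–Akizuki length bound for vector spaces
-/

open scoped Pointwise

namespace Groth.Agent.KrullAkizuki

universe u

variable {R : Type u} [CommRing R] [IsDomain R] [IsNoetherianRing R] [Ring.KrullDimLE 1 R]

theorem mulRange_eq_span (c : R) : mulRange c R = Ideal.span {c} := by
  ext x; simp [Ideal.mem_span_singleton, dvd_iff_exists_eq_mul_left, mul_comm c, eq_comm]

variable {K L : Type u} [Field K] [AddCommGroup L] [Algebra R K] [IsFractionRing R K] [Module K L]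
  [FiniteDimensional K L] [Module R L] [IsScalarTower R K L]

variable (R K) in
include K in
/-- Krull–Akizuki: for a torsion-free module of rank `r`, the length of `M/aM` is `≤ r·length(R/a)`. -/
theorem length_quotient_le_finrank (M : Submodule R L) {a : R} (ha : a ≠ 0) :
    Module.length R (M ⧸ mulRange a M) ≤
      (Module.finrank K L : ℕ∞) * Module.length R (R ⧸ Ideal.span {a}) := by
  classical
  set W : Submodule K L := Submodule.span K (M : Set L)
  obtain ⟨s, hsM, hsspan, hsli⟩ := exists_linearIndependent K (M : Set L)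
  have hsfin : Fintype s := (LinearIndependent.setFinite hsli).fintype
  set b := fun i : s => (i : L)
  set Λ : Submodule R L := Submodule.span R (Set.range b)
  have hliR : LinearIndependent R b :=
    LinearIndependent.restrict_scalars' R hsli
  let e : Λ ≃ₗ[R] (s → R) := (Module.Basis.span hliR).equivFun
  have hreg : ∀ (N : Submodule R L) (x : R), x ≠ 0 → IsSMulRegular N x := fun N x hx y z h => Subtype.ext (by
    have h' : x • (y : L) = x • (z : L) := congrArg Subtype.val h
    rw [← algebraMap_smul K x, ← algebraMap_smul K x (z : L)] at h'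
    exact smul_right_injective L ((map_ne_zero_iff _ (IsFractionRing.injective R K)).2 hx) h')
  set r : ℕ∞ := Module.length R (R ⧸ mulRange a R) * (Fintype.card s : ℕ∞)
  have hr : r ≠ ⊤ := by
    refine WithTop.mul_ne_top ?_ (ENat.coe_ne_top _)
    rw [show mulRange a R = Ideal.span {a} by
      ext x; simp [Ideal.mem_span_singleton, dvd_iff_exists_eq_mul_left, mul_comm a, eq_comm]]
    exact length_quotient_span_ne_top ha
  suffices hbound : ∀ Q : Submodule R (M ⧸ mulRange a M), Q.FG → Module.length R Q ≤ r by
    have hcard : Fintype.card s ≤ Module.finrank K L := LinearIndependent.fintype_card_le_finrank hsli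
    refine le_trans ?_ (show r ≤ _ by
      simp only [r]
      rw [mulRange_eq_span, mul_comm]
      exact mul_le_mul_left (by exact_mod_cast hcard) _)
    by_contra htop
    obtain ⟨Q, hQ, hlt⟩ : ∃ Q : Submodule R (M ⧸ mulRange a M), Q.FG ∧ r < Module.length R Q := by
      obtain ⟨n, hn⟩ := ENat.ne_top_iff_exists.1 hr
      rw [← hn]
      have hn0 : r = (n : ℕ∞) := hn.symm
      clear hn
      -- strictly increasing finitely generated submodules
      by_contra hno
      push Not at hno
      have hnoeth : IsNoetherian R (M ⧸ mulRange a M) := by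
        by_contra hnn
        obtain ⟨q, hq⟩ : ∃ q : ℕ → Submodule R (M ⧸ mulRange a M), (∀ i, (q i).FG) ∧ StrictMono q := by
          have hnf : ∃ Q₀ : Submodule R (M ⧸ mulRange a M), ¬ Q₀.FG := by
            by_contra h; push Not at h; exact hnn ⟨h⟩
          obtain ⟨Q₀, hQ₀⟩ := hnf
          have step : ∀ P : {P : Submodule R (M ⧸ mulRange a M) // P.FG ∧ P ≤ Q₀},
              ∃ P' : {P : Submodule R (M ⧸ mulRange a M) // P.FG ∧ P ≤ Q₀}, P.1 < P'.1 := by
            rintro ⟨P, hP, hPle⟩
            obtain ⟨x, hx, hxP⟩ := SetLike.exists_of_lt (lt_of_le_of_ne hPle (fun h => hQ₀ (h ▸ hP)))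
            exact ⟨⟨P ⊔ Submodule.span R {x}, hP.sup (Submodule.fg_span_singleton x),
              sup_le hPle ((Submodule.span_singleton_le_iff_mem _ _).2 hx)⟩, by
              simpa [lt_iff_le_not_ge, Submodule.span_singleton_le_iff_mem] using hxP⟩
          choose nxt hnxt using step
          let q : ℕ → {P : Submodule R (M ⧸ mulRange a M) // P.FG ∧ P ≤ Q₀} := fun i =>
            nxt^[i] ⟨⊥, Submodule.fg_bot, bot_le⟩
          exact ⟨fun i => (q i).1, fun i => (q i).2.1, strictMono_nat_of_lt_succ fun i => by
            simp only [q, Function.iterate_succ_apply']; exact hnxt _⟩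
        have hlen : ∀ i : ℕ, (i : ℕ∞) ≤ Module.length R (q i) := by
          intro i
          rw [Module.length_submodule]
          exact Order.length_le_height (p := ⟨i, fun j => q j, fun j => hq.2 (by simp [Fin.lt_def])⟩) le_rfl
        exact absurd ((hlen (n + 1)).trans (hno _ (hq.1 _))) (by norm_cast; omega)
      have := hno ⊤ (IsNoetherian.noetherian _)
      rw [Module.length_top] at this; rw [← hn0] at this
      exact htop this
    exact absurd (hbound Q hQ) (not_le.2 hlt)
  intro Q hQ
  obtain ⟨T, rfl⟩ := hQ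
  choose t ht using fun x : M ⧸ mulRange a M => Submodule.Quotient.mk_surjective _ x
  let N : Submodule R L := Submodule.span R (Set.range b ∪ (fun x : T => ((t x : M) : L)) '' Set.univ)
  have hNM : N ≤ M := Submodule.span_le.2 (by
    rintro _ (⟨i, rfl⟩ | ⟨x, -, rfl⟩)
    · exact hsM i.2
    · exact (t x).2)
  have hΛN : Λ ≤ N := Submodule.span_mono Set.subset_union_left
  have hNfg : N.FG := Submodule.fg_span ((Set.finite_range b).union (Set.finite_univ.image _))
  -- a common denominator
  obtain ⟨S, hS⟩ := hNfg
  have hden : ∀ x : L, x ∈ M → ∃ c : R, c ≠ 0 ∧ c • x ∈ Λ := by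
    intro x hx
    have : x ∈ Submodule.span K (Set.range b) := by
      rw [show Set.range b = s from Subtype.range_coe, hsspan]; exact Submodule.subset_span hx
    obtain ⟨f, hf⟩ := (Submodule.mem_span_range_iff_exists_fun K).1 this
    obtain ⟨⟨c, hc⟩, hcf⟩ := IsLocalization.exist_integer_multiples (nonZeroDivisors R) Finset.univ f
    refine ⟨c, nonZeroDivisors.ne_zero hc, ?_⟩
    rw [← hf, Finset.smul_sum]
    refine Submodule.sum_mem _ fun i _ => ?_
    obtain ⟨y, hy⟩ := hcf i (Finset.mem_univ i)
    rw [← smul_assoc, ← show algebraMap R K y = c • f i from hy, algebraMap_smul]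
    exact Submodule.smul_mem _ _ (Submodule.subset_span ⟨i, rfl⟩)
  choose c hc hcmem using fun x : S => hden x.1 (hNM (hS ▸ Submodule.subset_span x.2))
  let C : R := ∏ x, c x
  have hC : C ≠ 0 := Finset.prod_ne_zero_iff.2 fun x _ => hc x
  have hCN : ∀ x ∈ N, C • x ∈ Λ := by
    intro x hx
    rw [← hS] at hx
    induction hx using Submodule.span_induction with
    | mem z hz =>
      rw [show C = (∏ y ∈ Finset.univ.erase ⟨z, hz⟩, c y) * c ⟨z, hz⟩ from
        (Finset.prod_erase_mul _ _ (Finset.mem_univ _)).symm, mul_smul]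
      exact Submodule.smul_mem _ _ (hcmem _)
    | zero => simp
    | add _ _ _ _ h1 h2 => rw [smul_add]; exact add_mem h1 h2
    | smul d _ _ h1 => rw [smul_comm]; exact Submodule.smul_mem _ _ h1
  let j : N →ₗ[R] Λ := (C • N.subtype).codRestrict Λ fun x => hCN x x.2
  have hj : Function.Injective j := fun x y h => hreg N C hC (Subtype.ext (by simpa [j] using congrArg Subtype.val h))
  have hspan : ∀ c : R, mulRange c R = Ideal.span {c} := fun c => by
    ext x; simp [Ideal.mem_span_singleton, dvd_iff_exists_eq_mul_left, mul_comm c, eq_comm]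
  have hΛlen : ∀ c : R, Module.length R (Λ ⧸ mulRange c Λ) = (Fintype.card s : ℕ∞) * Module.length R (R ⧸ mulRange c R) := by
    intro c
    let p : Submodule R (s → R) := Submodule.pi Set.univ fun _ : s => mulRange c R
    have hp : (mulRange c Λ).map (e : Λ →ₗ[R] (s → R)) = p := by
      ext v
      constructor
      · rintro ⟨_, ⟨y, rfl⟩, rfl⟩
        exact fun i _ => ⟨e y i, by simp⟩
      · intro h
        choose w hw using fun i => h i trivial
        exact ⟨c • e.symm w, ⟨_, rfl⟩, by simp only [map_smul]; funext i; simpa using hw i⟩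
    rw [(Submodule.Quotient.equiv (mulRange c Λ) p e hp).length_eq,
      (Submodule.quotientPi fun _ : s => mulRange c R).length_eq, Module.length_pi_of_fintype]
    simp
  have hfin : Module.length R (Λ ⧸ LinearMap.range j) ≠ ⊤ := by
    have h1 : Module.length R (Λ ⧸ mulRange C Λ) ≠ ⊤ := by
      rw [hΛlen, hspan]
      exact WithTop.mul_ne_top (ENat.coe_ne_top _) (length_quotient_span_ne_top hC)
    refine ne_top_of_le_ne_top h1 (Module.length_le_of_surjective
      (Submodule.mapQ _ _ LinearMap.id ?_) fun x => ?_)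
    · rintro _ ⟨y, rfl⟩
      exact ⟨⟨y.1, hΛN y.2⟩, Subtype.ext rfl⟩
    · obtain ⟨x, rfl⟩ := Submodule.Quotient.mk_surjective _ x
      exact ⟨Submodule.Quotient.mk x, rfl⟩
  have hlenΛ : Module.length R (Λ ⧸ mulRange a Λ) = r := by rw [hΛlen, mul_comm]
  refine le_trans ?_ ((length_quotient_le_of_finite_coker (hreg N a ha) (hreg Λ a ha) j hj hfin).trans hlenΛ.le)
  have hm : mulRange a N ≤ (mulRange a M).comap (Submodule.inclusion hNM) := by
    rintro _ ⟨y, rfl⟩; exact ⟨Submodule.inclusion hNM y, rfl⟩
  let g := Submodule.mapQ _ _ (Submodule.inclusion hNM) hm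
  refine le_trans ?_ (Module.length_le_of_surjective (LinearMap.rangeRestrict g) g.surjective_rangeRestrict)
  refine Module.length_le_of_injective (Submodule.inclusion ?_) (Submodule.inclusion_injective _)
  rw [Submodule.span_le]
  intro x hx
  exact ⟨Submodule.Quotient.mk ⟨(t x : L), Submodule.subset_span (Or.inr ⟨⟨x, hx⟩, trivial, rfl⟩)⟩,
    (congrArg Submodule.Quotient.mk (Subtype.ext rfl)).trans (ht x)⟩

end Groth.Agent.KrullAkizuki

namespace Groth.Agent.KrullAkizuki

universe v

theorem mulRange_eq_smul_top {R : Type v} [CommRing R] (c : R) (N : Type v) [AddCommGroup N] [Module R N] :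
    mulRange c N = Ideal.span {c} • (⊤ : Submodule R N) := by
  ext x
  rw [Submodule.ideal_span_singleton_smul, Submodule.mem_smul_pointwise_iff_exists]
  exact ⟨fun ⟨y, hy⟩ => ⟨y, trivial, hy⟩, fun ⟨y, _, hy⟩ => ⟨y, hy⟩⟩

end Groth.Agent.KrullAkizuki
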